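import Mathlib
import Cfsg.Agent.J1S.LJ
import Cfsg.Agent.Inv.UT4
import Cfsg.Agent.G2T.Model

/-! The Sylow subgroup of order `64` (PLAN: N1a). -/

set_option autoImplicit false
set_option linter.unusedSectionVars false

namespace Cfsg.Agent.J1S

open Cfsg Cfsg.Agent.GT Cfsg.Agent.Loc.Mss Cfsg.Agent.StdB Subgroup
open scoped commutatorElement

variable {G : Type*} [Group G] [Finite G] {c : Cfg G}

namespace N1a

theorem heis {j y s : G} (jj : j * j = 1) (yy : y * y = 1) (ss : s * s = 1) (sj : Commute j s)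
    (sy : Commute y s) (jy : j * y = s * y * j) (a b d a' b' d' : ZMod 2) :
    s ^ (d + d' + a * b').val * y ^ (b + b').val * j ^ (a + a').val =
      s ^ d.val * y ^ b.val * j ^ a.val * (s ^ d'.val * y ^ b'.val * j ^ a'.val) := by
  have c1 : ∀ (n m : ℕ) w, y ^ n * (s ^ m * w) = s ^ m * (y ^ n * w) := fun n m w => by
    rw [← mul_assoc, (sy.pow_pow n m).eq, mul_assoc]
  have c2 : ∀ (n m : ℕ) w, j ^ n * (s ^ m * w) = s ^ m * (j ^ n * w) := fun n m w => by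
    rw [← mul_assoc, (sj.pow_pow n m).eq, mul_assoc]
  have c3 : ∀ w, j ^ a.val * (y ^ b'.val * w) = s ^ (a * b').val * (y ^ b'.val * (j ^ a.val * w)) := fun w => by
    have : ∀ a : ZMod 2, a = 0 ∨ a = 1 := by decide
    rcases this a with rfl | rfl <;> rcases this b' with rfl | rfl <;>
      simp [ZMod.val_one, ← mul_assoc, jy]
  simp only [pow_val_add jj, pow_val_add yy, pow_val_add ss, mul_assoc, c1, c2, c3]

variable (d : c.LD)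

theorem move {n : G} (hn : n ∈ d.N) (x : V3) : n * c.ε x = c.ε ((c.mat n).ap x) * n := by
  rw [← Cfg.mat_spec (d.nE hn), inv_mul_cancel_right]

theorem move' {n : G} (hn : n ∈ d.N) (x : V3) (w : G) :
    n * (c.ε x * w) = c.ε ((c.mat n).ap x) * (n * w) := by rw [← mul_assoc, move d hn, mul_assoc]

theorem ε_mul (x y : V3) (w : G) : c.ε x * (c.ε y * w) = c.ε (x + y) * w := by rw [c.ε_add, mul_assoc]

variable (h : d.r = 0)
include h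

theorem W_le : d.W ≤ c.E := Cfg.Pi.eq_E (π := d.π) (h ▸ d.pi)

theorem ker {n : G} (hn : n ∈ d.N) (e : c.mat n = 1) : ∃ x, c.ε x = n := c.mem_E.1 (W_le d h (d.ker n hn e))

theorem sq {n : G} (hn : n ∈ d.N) (e : c.mat n * c.mat n = 1) : ∃ x, n * n = c.ε ((c.mat n).ap x + x) := by
  obtain ⟨h1, x, h2⟩ := d.π_sq hn e
  exact ⟨x, by rw [← h2, d.pi.pow _ h1, h, pow_zero, pow_one]⟩

theorem card_T' : Nat.card d.T' = 64 := by
  rw [Cfg.LD.T', d.card_pre', le_antisymm (W_le d h) d.l1.E_le, c.card_E, Cfg.card_D8']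

theorem exists_y : ∃ y ∈ d.N, c.mat y = mY1 ∧ Commute y (d.j * y * d.j⁻¹) := by
  have jj : d.j * d.j = 1 := d.jd.jj.resolve_right fun k => k.2 h
  have ρ2 : d.ρ * d.ρ = d.ρ⁻¹ := eq_inv_of_mul_eq_one_left (by rw [← d.ρ3, pow_three'])
  have hρ := d.ρ_mem
  have m1 : ∀ x ∈ d.N, c.mat x = mY1 → d.ρ * x * d.ρ⁻¹ ∈ d.N ∧ c.mat (d.ρ * x * d.ρ⁻¹) = mY0 * mY1 := fun x hx e =>
    ⟨mul_mem (mul_mem hρ hx) (inv_mem hρ), by rw [Cfg.mat_conj (d.nE hρ) (d.nE hx), d.mat_ρ, e]; decide⟩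
  have m2 : ∀ x ∈ d.N, c.mat x = mY1 → d.ρ⁻¹ * x * d.ρ ∈ d.N ∧ c.mat (d.ρ⁻¹ * x * d.ρ) = mY0 := fun x hx e =>
    ⟨mul_mem (mul_mem (inv_mem hρ) hx) hρ, by
      rw [Cfg.mat_mul (d.nE (mul_mem (inv_mem hρ) hx)) (d.nE hρ), Cfg.mat_mul (d.nE (inv_mem hρ)) (d.nE hx),
        Cfg.mat_inv (d.nE hρ), d.mat_ρ, e]; decide⟩
  have nm : ∀ x ∈ d.N, c.mat x = mY1 → ∀ a : V3, ∃ b : V3, b.1 = a.1 ∧ d.ν (c.ε a * x) = c.ε b * d.ν x := by
    intro x hx e a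
    have e1 : d.ρ * (c.ε a * x) * d.ρ⁻¹ = c.ε (mR.ap a) * (d.ρ * x * d.ρ⁻¹) := by
      rw [move' d hρ, d.mat_ρ, mul_assoc]
    have e2 : d.ρ⁻¹ * (c.ε a * x) * d.ρ = c.ε (mR⁻¹.ap a) * (d.ρ⁻¹ * x * d.ρ) := by
      rw [move' d (inv_mem hρ), Cfg.mat_inv (d.nE hρ), d.mat_ρ, mul_assoc]
    refine ⟨a + mY1.ap (mR.ap a + (mY0 * mY1).ap (mR⁻¹.ap a)), by clear e1 e2; revert a; decide, ?_⟩
    rw [Cfg.LD.ν, Cfg.LD.ν, e1, e2, mul_assoc, mul_assoc (c.ε (mR.ap a)), move' d (m1 x hx e).1, (m1 x hx e).2, ε_mul,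
      mul_assoc, move' d hx, e, ε_mul, mul_assoc x]
  have n0 : ∀ x ∈ d.N, c.mat x = mY1 → ∃ a, c.ε a = d.ν x := fun x hx e =>
    ker d h (mul_mem (mul_mem hx (m1 x hx e).1) (m2 x hx e).1) (by
      rw [Cfg.LD.ν, Cfg.mat_mul (d.nE (mul_mem hx (m1 x hx e).1)) (d.nE (m2 x hx e).1), Cfg.mat_mul (d.nE hx) (d.nE (m1 x hx e).1),
        e, (m1 x hx e).2, (m2 x hx e).2]; decide)
  have εN : ∀ a, c.ε a ∈ d.N := fun a => d.W_le (d.l1.E_le (c.ε_mem a))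
  have me : ∀ a, ∀ x ∈ d.N, c.mat (c.ε a * x) = c.mat x := fun a x hx => by
    rw [Cfg.mat_mul (d.nE (εN a)) (d.nE hx), d.mat_W (d.l1.E_le (c.ε_mem a)), one_mul]
  obtain ⟨x, hx, e, a, a0, ea⟩ : ∃ x ∈ d.N, c.mat x = mY1 ∧ ∃ a : V3, a.1 = 0 ∧ c.ε a = d.ν x := by
    obtain ⟨x, hx, e⟩ := d.surj mY1
    obtain ⟨a, ea⟩ := n0 x hx e
    obtain ⟨b, b1, eb⟩ := nm x hx e a
    exact ⟨c.ε a * x, mul_mem (εN a) hx, (me a x hx).trans e, b + a, by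
      rw [Prod.fst_add, b1]; exact CharTwo.add_self_eq_zero _, by rw [eb, ← ea, c.ε_add]⟩
  obtain ⟨h1, e1⟩ := m1 x hx e
  obtain ⟨h2, e2⟩ := m2 x hx e
  have r1 : d.ρ * (d.ρ * x * d.ρ⁻¹) * d.ρ⁻¹ = d.ρ⁻¹ * x * d.ρ := by
    rw [← mul_assoc, ← mul_assoc, ρ2, mul_assoc _ d.ρ⁻¹, ← mul_inv_rev, ρ2, inv_inv]
  have r2 : d.ρ * (d.ρ⁻¹ * x * d.ρ) * d.ρ⁻¹ = x := by group
  rw [Cfg.LD.ν] at ea
  have en : d.ν x = x * (d.ρ * x * d.ρ⁻¹) * (d.ρ⁻¹ * x * d.ρ) := rfl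
  obtain ⟨x', hx'⟩ : ∃ x', x' = d.ρ * x * d.ρ⁻¹ := ⟨_, rfl⟩
  obtain ⟨x'', hx''⟩ : ∃ x'', x'' = d.ρ⁻¹ * x * d.ρ := ⟨_, rfl⟩
  rw [← hx''] at r1 r2 h2 e2 ea en
  rw [← hx'] at r1 h1 e1 ea en
  have cv : ∀ b : V3, b.1 = 0 → Commute x (c.ε b) ∧ Commute x' (c.ε b) := fun b b0 => by
    have k : ∀ b : V3, b.1 = 0 → mY1.ap b = b ∧ (mY0 * mY1).ap b = b := by decide
    exact ⟨by rw [Commute, SemiconjBy, move d hx, e, (k b b0).1], by rw [Commute, SemiconjBy, move d h1, e1, (k b b0).2]⟩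
  have fp : ∀ b : V3, b.1 = 0 → d.ρ * c.ε b * d.ρ⁻¹ = c.ε b → c.ε b = 1 := fun b b0 k => by
    have k' : ∀ b : V3, b.1 = 0 → mR.ap b = b → b = 0 := by decide
    rw [Cfg.mat_spec (d.nE hρ), d.mat_ρ] at k
    rw [k' b b0 (c.ε_inj k), c.ε_zero]
  have cx : Commute x x' := by
    obtain ⟨p, ep⟩ := sq d h hx (by rw [e]; decide)
    obtain ⟨q, eq⟩ := sq d h h1 (by rw [e1]; decide)
    have e3 : c.mat (x * x') = mY0 := by rw [Cfg.mat_mul (d.nE hx) (d.nE h1), e, e1]; decide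
    obtain ⟨s, es⟩ := sq d h (mul_mem hx h1) (by rw [e3]; decide)
    rw [e] at ep; rw [e1] at eq; rw [e3] at es
    have k : ∀ p q s : V3, (mY1.ap p + p).1 = 0 ∧
        (mY0.ap s + s + ((mY0 * mY1).ap q + q) + (mY1.ap p + p)).1 = 0 := by decide
    obtain ⟨p0, b0⟩ := k p q s
    have ek : x * x' * x⁻¹ * x'⁻¹ = c.ε (mY0.ap s + s + ((mY0 * mY1).ap q + q) + (mY1.ap p + p)) := by
      rw [c.ε_add, c.ε_add, ← es, ← c.ε_inv ((mY0 * mY1).ap q + q), ← c.ε_inv (mY1.ap p + p), ← eq, mul_assoc (x * x' * _),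
        ← mul_inv_rev, eq_mul_inv_iff_mul_eq, ← mul_assoc (c.ε _), ← (cv _ p0).2.eq, ← ep]
      group
    have := fp _ b0 (by
      have e4 : x'' = x'⁻¹ * x⁻¹ * c.ε a := by rw [ea]; group
      have e5 : d.ρ * (x * x' * x⁻¹ * x'⁻¹) * d.ρ⁻¹ = x' * x'' * x'⁻¹ * x''⁻¹ := by rw [← r1, hx']; group
      have e6 : c.ε a * x'⁻¹ * (c.ε a)⁻¹ = x'⁻¹ := by rw [← (cv a a0).2.inv_left.eq, mul_inv_cancel_right]
      have e7 := ((cv _ b0).2.mul_left (cv _ b0).1).inv_left.eq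
      rw [← ek, e5, e4, show x' * (x'⁻¹ * x⁻¹ * c.ε a) * x'⁻¹ * (x'⁻¹ * x⁻¹ * c.ε a)⁻¹ =
        x⁻¹ * (c.ε a * x'⁻¹ * (c.ε a)⁻¹) * x * x' by group, e6,
        show x⁻¹ * x'⁻¹ * x * x' = (x' * x)⁻¹ * (x * x' * x⁻¹ * x'⁻¹) * (x' * x) by group, ek, e7,
        inv_mul_cancel_right])
    rwa [← ek, mul_inv_eq_one, mul_inv_eq_iff_eq_mul] at this
  have a1 : x * x' * x'' = 1 := ea.symm.trans (fp a a0 (by
    have e5 : d.ρ * (x * x' * x'') * d.ρ⁻¹ = x⁻¹ * (x * x' * x'') * x := by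
      rw [show d.ρ * (x * x' * x'') * d.ρ⁻¹ = d.ρ * x * d.ρ⁻¹ * (d.ρ * x' * d.ρ⁻¹) * (d.ρ * x'' * d.ρ⁻¹) by group, r1, r2, ← hx']
      group
    rw [ea, e5, ← ea, (cv a a0).1.inv_left.eq, inv_mul_cancel_right]))
  have hj := d.j_mem
  have hu : d.j * x' * d.j⁻¹ ∈ d.N := mul_mem (mul_mem hj h1) (inv_mem hj)
  have eu : c.mat (d.j * x' * d.j⁻¹) = mY1 := by rw [Cfg.mat_conj (d.nE hj) (d.nE h1), d.j_mat, e1]; decide
  obtain ⟨a', ea'⟩ := ker d h (mul_mem hu (inv_mem hx)) (by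
    rw [Cfg.mat_mul (d.nE hu) (d.nE (inv_mem hx)), Cfg.mat_inv (d.nE hx), eu, e, mul_inv_cancel])
  obtain ⟨b, b1, eb⟩ := nm x hx e a'
  have nu : d.ν (d.j * x' * d.j⁻¹) = 1 := by
    have k1 : d.ρ = d.j * d.ρ⁻¹ * d.j⁻¹ := by
      rw [← inv_inj, show (d.j * d.ρ⁻¹ * d.j⁻¹)⁻¹ = d.j * d.ρ * d.j⁻¹ by group, d.jρ]
    have k2 : d.ρ * (d.j * x' * d.j⁻¹) * d.ρ⁻¹ = d.j * x * d.j⁻¹ := by
      calc _ = d.j * d.ρ⁻¹ * d.j⁻¹ * (d.j * x' * d.j⁻¹) * (d.j * d.ρ * d.j⁻¹) := by rw [← k1, d.jρ]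
        _ = _ := by rw [hx']; group
    have k3 : d.ρ⁻¹ * (d.j * x' * d.j⁻¹) * d.ρ = d.j * x'' * d.j⁻¹ := by
      calc _ = d.j * d.ρ * d.j⁻¹ * (d.j * x' * d.j⁻¹) * (d.j * d.ρ⁻¹ * d.j⁻¹) := by rw [← k1, d.jρ]
        _ = _ := by rw [← r1]; group
    rw [Cfg.LD.ν, k2, k3, conj_mul, conj_mul, ← cx.eq, a1, mul_one, mul_inv_cancel]
  rw [ea', inv_mul_cancel_right, nu, en, a1, mul_one, eq_comm, c.ε_eq_one] at eb
  have e8 : d.j * x * d.j⁻¹ = c.ε (mJ.ap a') * x' := by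
    rw [← c.ε_inv, ← d.j_mat, ← Cfg.mat_spec (d.nE hj), ea', show d.j * (d.j * x' * d.j⁻¹ * x⁻¹) * d.j⁻¹ =
      d.j * d.j * x' * (d.j * d.j)⁻¹ * (d.j * x⁻¹ * d.j⁻¹) by group, jj]
    group
  refine ⟨x, hx, e, e8 ▸ (cv _ ?_).1.mul_right cx⟩
  have k : ∀ a : V3, (0 : V3).1 = a.1 → (mJ.ap a).1 = 0 := by decide
  exact k a' (eb ▸ b1)

end N1a

open N1a in
theorem Cfg.LD.type_zero (d : c.LD) (h : d.r = 0) :
    Nonempty (Inv.UT4 ≃* d.T') ∨ Nonempty (G2T.GS 0 ≃* d.T') := by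
  have jj : d.j * d.j = 1 := d.jd.jj.resolve_right fun k => k.2 h
  have ji : d.j⁻¹ = d.j := inv_eq_of_mul_eq_one_right jj
  have hj := d.j_mem
  obtain ⟨y, hy, e, cy⟩ := exists_y d h
  have hy' : d.j * y * d.j⁻¹ ∈ d.N := mul_mem (mul_mem hj hy) (inv_mem hj)
  have e' : c.mat (d.j * y * d.j⁻¹) = mY0 * mY1 := by rw [Cfg.mat_conj (d.nE hj) (d.nE hy), d.j_mat, e]; decide
  have mT : ∀ n ∈ d.N, c.mat n ∈ D8' → n ∈ d.T' := fun n hn k => d.mem_pre'.2 ⟨hn, k⟩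
  have εT : ∀ x, c.ε x ∈ d.T' := fun x => d.W_le_pre _ (d.l1.E_le (c.ε_mem x))
  have yT := mT y hy (by rw [e]; decide)
  have jT := mT _ hj (by rw [d.j_mat]; decide)
  obtain ⟨p, ep⟩ := sq d h hy (by rw [e]; decide)
  have k : ∀ p : V3, mY1.ap p + p = 0 ∨ mY1.ap p + p = (0, 0, 1) := by decide
  rw [e] at ep
  rcases k p with k | k <;> rw [k] at ep
  · rw [c.ε_zero] at ep
    set s := y * (d.j * y * d.j⁻¹) with hs
    have sN : s ∈ d.N := mul_mem hy hy'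
    have es : c.mat s = mY0 := by rw [Cfg.mat_mul (d.nE hy) (d.nE hy'), e, e']; decide
    have ss : s * s = 1 := by rw [hs, cy.symm.mul_mul_mul_comm, conj_mul, ep]; group
    have sy : Commute y s := (Commute.refl y).mul_right cy
    have sj : Commute d.j s := by
      rw [Commute, SemiconjBy, hs]
      nth_rewrite 1 [cy.eq]
      rw [ji, ← mul_assoc, ← mul_assoc, ← mul_assoc, jj, mul_assoc y, mul_assoc (d.j * y), jj]
      group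
    have jy : d.j * y = s * y * d.j := by
      rw [← sy.eq, hs, ← mul_assoc y, ep, one_mul, inv_mul_cancel_right]
    have gN : ∀ a b f : ZMod 2, s ^ f.val * y ^ b.val * d.j ^ a.val ∈ d.N ∧
        c.mat (s ^ f.val * y ^ b.val * d.j ^ a.val) = mY0 ^ f.val * mY1 ^ b.val * mJ ^ a.val := fun a b f =>
      ⟨mul_mem (mul_mem (pow_mem sN _) (pow_mem hy _)) (pow_mem hj _), by
        rw [Cfg.mat_mul (d.nE (mul_mem (pow_mem sN _) (pow_mem hy _))) (d.nE (pow_mem hj _)),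
          Cfg.mat_mul (d.nE (pow_mem sN _)) (d.nE (pow_mem hy _)), Cfg.mat_pow (d.nE sN), Cfg.mat_pow (d.nE hy),
          Cfg.mat_pow (d.nE hj), es, e, d.j_mat]⟩
    have sT := mT s sN (by rw [es]; decide)
    let φ : Inv.UT4 →* d.T' := MonoidHom.mk' (fun u => ⟨c.ε (u.c, u.f, u.e) * (s ^ u.d.val * y ^ u.b.val * d.j ^ u.a.val),
      mul_mem (εT _) (mul_mem (mul_mem (pow_mem sT _) (pow_mem yT _)) (pow_mem jT _))⟩) fun u v => Subtype.ext (by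
        have k : ∀ a b f : ZMod 2, ∀ x y : V3, (x.1 + y.1, x.2.1 + y.2.1 + a * y.2.2 + f * y.1, x.2.2 + y.2.2 + b * y.1) =
            x + (mY0 ^ f.val * mY1 ^ b.val * mJ ^ a.val).ap y := by decide +kernel
        simp only [Inv.UT4.mul_def, coe_mul]
        rw [heis jj ep ss sj sy jy, mul_assoc (c.ε _), move' d (gN _ _ _).1, (gN _ _ _).2, ε_mul,
          ← k u.a u.b u.d (u.c, u.f, u.e) (v.c, v.f, v.e)])
    refine .inl ⟨MulEquiv.ofBijective φ (Function.Injective.bijective_of_nat_card_le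
      ((injective_iff_map_eq_one _).2 fun u hu => ?_) (by rw [card_T' d h, Inv.UT4.card]))⟩
    have h1 : c.ε (u.c, u.f, u.e) * (s ^ u.d.val * y ^ u.b.val * d.j ^ u.a.val) = 1 := congrArg Subtype.val hu
    have h2 := (gN u.a u.b u.d).2
    rw [eq_inv_of_mul_eq_one_right h1, c.ε_inv, d.mat_W (d.l1.E_le (c.ε_mem _))] at h2
    have k : ∀ a b f : ZMod 2, 1 = mY0 ^ f.val * mY1 ^ b.val * mJ ^ a.val → a = 0 ∧ b = 0 ∧ f = 0 := by decide +kernel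
    obtain ⟨h3, h4, h5⟩ := k _ _ _ h2
    simp only [h3, h4, h5, ZMod.val_zero, pow_zero, mul_one, c.ε_eq_one] at h1
    exact Inv.UT4.ext h3 h4 (congrArg Prod.fst h1) h5 (congrArg (·.2.2) h1) (congrArg (·.2.1) h1)
  · have R : G2T.GS.Rel 0 (⟨y, yT⟩ : d.T') ⟨_, mT _ hy' (by rw [e']; decide)⟩ ⟨d.j, jT⟩ ⟨c.ε (1, 0, 0), εT _⟩ :=
      ⟨Subtype.ext (show y ^ 2 ^ (0 + 2) = 1 by
          rw [show 2 ^ (0 + 2) = 2 * 2 from rfl, pow_mul, pow_two, pow_two, ep, c.ε_sq]),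
        Subtype.ext cy.eq, Subtype.ext jj, Subtype.ext (c.ε_sq _),
        Subtype.ext (show d.j * c.ε _ = c.ε _ * d.j by rw [move d hj, d.j_mat]; rfl),
        Subtype.ext (show d.j * y = d.j * y * d.j⁻¹ * d.j by group),
        Subtype.ext (show c.ε _ * y = y⁻¹ * c.ε _ by
          rw [eq_inv_mul_iff_mul_eq, move' d hy, e, ep, ← c.ε_add]; rfl)⟩
    obtain ⟨f, -, -, -, -, hz⟩ := R.exists_hom
    refine .inr ⟨MulEquiv.ofBijective f (Function.Injective.bijective_of_nat_card_le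
      (G2T.GS.injective_of_z f fun k => ?_) (by rw [card_T' d h, G2T.GS.card]; rfl))⟩
    have h1 : (y * (d.j * y * d.j⁻¹)) ^ 2 = 1 := congrArg Subtype.val (hz.symm.trans k)
    rw [pow_two, cy.symm.mul_mul_mul_comm, conj_mul, ep, Cfg.mat_spec (d.nE hj), d.j_mat, ← c.ε_add, c.ε_eq_one] at h1
    exact absurd h1 (by decide)

end Cfsg.Agent.J1S
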